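import Cfsg.Agent.H232.SN.Co3
import Cfsg.Agent.H588.SN.Mat
import Cfsg.Agent.H489.SN.RowPSp

/-!
# S3831: `G3` for `Co3` (helper232)
-/

set_option autoImplicit false

namespace Cfsg.Agent.H232.SN.Co

open Cfsg Cfsg.Agent.H21.SN

theorem g3_sp : G3 Cfsg.Agent.SporRec.TwoSp6.Sp.S := by
  have hc := Cfsg.Agent.SporRec.TwoSp6.Sp.card_S
  have hf : Finite Cfsg.Agent.SporRec.TwoSp6.Sp.S := Nat.finite_of_card_ne_zero (by rw [hc]; norm_num)
  have e : Cfsg.Agent.SporRec.TwoSp6.Sp.S ≃* Cfsg.PSp 3 (ZMod 2) :=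
    (QuotientGroup.quotientBot.symm).trans
      (QuotientGroup.quotientMulEquivOfEq Cfsg.Agent.Co2Type.Setup.center_sp6.symm)
  have hf' : Finite (Cfsg.PSp 3 (ZMod 2)) := Finite.of_equiv _ e.toEquiv
  exact G3.congr e (Cfsg.Agent.H489.SN.row_two (F := ZMod 2) (l := 1) (ZMod.card 2) le_rfl)

theorem g3_M12 : G3 Spor.M12 := by
  have hM := Cfsg.Agent.CTwoTab.Co3.simple_M12
  have hf : Finite Spor.M12 := Cfsg.Agent.CpAutCo3.MTw.finM
  exact Cfsg.Agent.H588.SN.g3_m12 (K := Spor.M12) ⟨MulEquiv.refl _⟩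

/-- **`Co3`** -/
theorem g3_co3' {K : Type*} [Group K] [Finite K] (h : Cfsg.Spor.IsoCo3 K) : G3 K := g3_co3 g3_M12 g3_sp h

end Cfsg.Agent.H232.SN.Co
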