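import Cfsg.Agent.H21.SN.Tools
import Cfsg.Agent.H839.Rad.Base

/-!
# Passing to sections for `G3` (helper232, for S3831)

* `rn_conj`, `g3_of_inner` : inner automorphisms;
* `false_of_map` : `a ∈ M`, `f : M →* L` onto with solvable kernel, `f a ≠ 1`, `center L = ⊥`, `G3 L`: contradiction;
* `false_of_sylow` : `G3 M` for a subgroup `M` of index prime to three.
-/

set_option autoImplicit false

namespace Cfsg.Agent.H232.SN

open Subgroup Cfsg Cfsg.Agent.H21.SN Cfsg.Agent.H459.Rad

variable {K : Type*} [Group K]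

theorem tr_conj {L : Type*} [Group L] (e : K ≃* L) (x : K) : tr e (MulAut.conj x) = MulAut.conj (e x) := by
  ext y
  simp [tr_apply]

theorem rn_conj [Finite K] {x : K} (h : RN (MulAut.conj x)) (g : K) : RN (MulAut.conj (g * x * g⁻¹)) := by
  have h1 := h.tr (MulAut.conj g)
  rw [tr_conj] at h1
  exact h1

theorem g3_of_inner [Finite K] (hin : ∀ x : MulAut K, orderOf x = 3 → ∃ a : K, x = MulAut.conj a)
    (hZ : center K = ⊥)
    (h : ∀ a : K, orderOf a = 3 → PS 2 (MulAut.conj a) → RN (MulAut.conj a) → False) : G3 K := by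
  intro x hx hP hR
  obtain ⟨a, rfl⟩ := hin x hx
  refine h a ?_ hP hR
  rw [← hx]
  exact (orderOf_injective (MulAut.conj : K →* MulAut K) (Cfsg.Agent.H839.Rad.conj_injective hZ) a).symm

/-- **passing to a section** -/
theorem false_of_map [Finite K] {a : K} (ha : a ^ 3 = 1) (hP : PS 2 (MulAut.conj a)) (hR : RN (MulAut.conj a))
    {M : Subgroup K} (haM : a ∈ M) {L : Type*} [Group L] [Finite L] (f : M →* L) (hf : Function.Surjective f)
    (hk : Group.IsSolvable f.ker) (hZ : center L = ⊥) (hfa : f ⟨a, haM⟩ ≠ 1) (h : G3 L) : False := by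
  have hM : ∀ m ∈ M, MulAut.conj a m ∈ M := fun m hm => M.mul_mem (M.mul_mem haM hm) (M.inv_mem haM)
  have hy : ∀ m : M, f ⟨MulAut.conj a m, hM m m.2⟩ = MulAut.conj (f ⟨a, haM⟩) (f m) := by
    intro m
    have h1 : (⟨MulAut.conj a m, hM m m.2⟩ : M) = ⟨a, haM⟩ * m * (⟨a, haM⟩ : M)⁻¹ := rfl
    rw [h1, MulAut.conj_apply, map_mul, map_mul, map_inv]
  have ho : orderOf (MulAut.conj (f ⟨a, haM⟩)) = 3 := by
    rw [orderOf_injective (MulAut.conj : L →* MulAut L) (Cfsg.Agent.H839.Rad.conj_injective hZ)]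
    have : Fact (Nat.Prime 3) := ⟨Nat.prime_three⟩
    refine orderOf_eq_prime ?_ hfa
    rw [← map_pow]
    have : (⟨a, haM⟩ : M) ^ 3 = 1 := Subtype.ext ha
    rw [this, map_one]
  exact h _ ho (Cfsg.Agent.H21.SN.PS.sec hP hM f hf _ hy) (Cfsg.Agent.H21.SN.RN.sec hR hM f hf hk _ hy)

/-- **passing to a subgroup** -/
theorem false_of_mem [Finite K] {a : K} (ha : orderOf a = 3) (hP : PS 2 (MulAut.conj a)) (hR : RN (MulAut.conj a))
    {M : Subgroup K} (haM : a ∈ M) (hZ : center M = ⊥) (h : G3 M) : False := by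
  refine false_of_map (by rw [← ha, pow_orderOf_eq_one]) hP hR haM (MonoidHom.id M) (fun m => ⟨m, rfl⟩) ?_ hZ ?_ h
  · rw [MonoidHom.ker_id]
    infer_instance
  · intro h1
    have h2 : a = 1 := congrArg Subtype.val h1
    rw [h2, orderOf_one] at ha
    norm_num at ha

/-- **passing to a subgroup of index prime to three** -/
theorem false_of_sylow [Finite K] {a : K} (ha : orderOf a = 3) (hP : PS 2 (MulAut.conj a))
    (hR : RN (MulAut.conj a)) {M : Subgroup K} (hi : ¬ 3 ∣ M.index) (hZ : center M = ⊥) (h : G3 M) : False := by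
  have hp : Fact (Nat.Prime 3) := ⟨Nat.prime_three⟩
  obtain ⟨S⟩ : Nonempty (Sylow 3 M) := inferInstance
  have hS : IsPGroup 3 ↥((S : Subgroup M).map M.subtype) := S.isPGroup'.map _
  have hci : ¬ 3 ∣ ((S : Subgroup M).map M.subtype).index := by
    rw [← relIndex_mul_index (map_subtype_le (S : Subgroup M)), Nat.prime_three.dvd_mul, not_or]
    refine ⟨?_, hi⟩
    have h1 : ((S : Subgroup M).map M.subtype).relIndex M = (S : Subgroup M).index := by
      rw [relIndex, subgroupOf, comap_map_eq_self_of_injective M.subtype_injective]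
    rw [h1]
    exact S.not_dvd_index
  let P' : Sylow 3 K := hS.toSylow hci
  have hx : IsPGroup 3 ↥(zpowers a) := IsPGroup.of_card (n := 1) (by rw [Nat.card_zpowers, ha, pow_one])
  obtain ⟨P'', hP''⟩ := hx.exists_le_sylow
  obtain ⟨g, hg⟩ := MulAction.exists_smul_eq K P'' P'
  have h1 : g * a * g⁻¹ ∈ M := by
    have h2 : g * a * g⁻¹ ∈ (P' : Subgroup K) := by
      rw [← hg, Sylow.coe_subgroup_smul]
      exact smul_mem_pointwise_smul a (MulAut.conj g) _ (hP'' (mem_zpowers a))
    exact map_subtype_le (S : Subgroup M) h2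
  refine false_of_mem (a := g * a * g⁻¹) ?_ (Cfsg.Agent.H839.Rad.ps_conj hP g) (rn_conj hR g) h1 hZ h
  rw [← ha]
  exact orderOf_injective (MulAut.conj g).toMonoidHom (MulAut.conj g).injective a

/-- a simple group of composite order has trivial centre -/
theorem center_eq_bot {S : Type*} [Group S] [Finite S] [IsSimpleGroup S] (h : ¬ (Nat.card S).Prime) :
    center S = ⊥ := by
  rcases (inferInstance : (center S).Normal).eq_bot_or_eq_top with h1 | h1
  · exact h1
  · exfalso
    let _ : CommGroup S := { mul_comm := fun a b => (mem_center_iff.1 (h1 ▸ mem_top b)) a }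
    exact h IsSimpleGroup.prime_card

end Cfsg.Agent.H232.SN
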