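import Cfsg.Agent.H491.Rad3.B
import Cfsg.Agent.H455.RecBFi
import Cfsg.Agent.H232.SN.Pass

/-!
# `G3` for the Baby Monster (helper232, for S3831)

`Fi23` is a subgroup of index prime to three.
-/

set_option autoImplicit false

namespace Cfsg.Agent.H232.SN.B

open Subgroup Cfsg Cfsg.Agent.H21.SN Cfsg.Agent.H459.Rad Cfsg.Agent.H232.SN

/-- **the Baby Monster** -/
theorem g3_b (h23 : G3 Spor.Fi23) {K : Type*} [Group K] [Finite K] (h : Cfsg.Spor.IsoB K) : G3 K := by
  obtain ⟨e⟩ := Cfsg.Agent.KFacts.Baby.RowB.exists_iso h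
  have hfin : Finite Cfsg.Agent.BabyM.Inst.M.G := Cfsg.Agent.BabyM.Instance.all.finite_G
  refine G3.congr e.symm ?_
  have hs := Cfsg.Agent.BabyM.Instance.isB.1
  obtain ⟨M, ⟨f⟩⟩ := Cfsg.Agent.H455.RecB.fi23_model
  have hB : Nat.card Cfsg.Agent.BabyM.Inst.M.G = 4154781481226426191177580544000000 :=
    Cfsg.Agent.BabyM.Instance.isB.2
  have hcM : Nat.card M = 4089470473293004800 := by
    rw [← Nat.card_congr f.toEquiv]
    exact Cfsg.Agent.S1697.result.2
  have hidx : M.index = 1015970529280000 := by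
    have h1 := M.card_mul_index
    rw [hcM, hB] at h1
    omega
  have hs23 : IsSimpleGroup Spor.Fi23 := Cfsg.Agent.S1697.result.1
  have hf23 : Finite Spor.Fi23 := Finite.of_equiv _ f.symm.toEquiv
  have hsM : IsSimpleGroup M := (MulEquiv.isSimpleGroup_congr f).1 hs23
  have hI : Cfsg.Spor.IsoB Cfsg.Agent.BabyM.Inst.M.G := by
    obtain ⟨f⟩ := h
    exact ⟨e.trans f⟩
  have hZ : center Cfsg.Agent.BabyM.Inst.M.G = ⊥ := center_eq_bot (by rw [hB]; norm_num)
  refine g3_of_inner (Cfsg.Agent.BpSpor.Inn.b hI 3 Nat.prime_three (by norm_num)) hZ ?_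
  intro a ha hP hR
  exact false_of_sylow ha hP hR (M := M) (by rw [hidx]; norm_num)
    (center_eq_bot (by rw [hcM]; norm_num)) (G3.congr f.symm h23)

end Cfsg.Agent.H232.SN.B
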