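import Cfsg.Agent.H842.ThreeCl
import Cfsg.Agent.H830.Con24
import Cfsg.Agent.H831.Types
import Cfsg.Agent.H232.SN.Two

/-!
# `Fi24`: elements of order three, two conjugates of which generate a solvable group (helper232, for S3831)

* `Sol y` : `⟨y, y^g⟩` is solvable for all `g ∈ Fi24'`;
* `cj_c` : such an element of order three is conjugate to the element `c` of the monomial group `3^5 : S₆` (or its
  inverse); `exists_comm` : it commutes with a transposition.
-/

set_option autoImplicit false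
set_option maxRecDepth 100000

namespace Cfsg.Agent.H232.SN.FiF

open Cfsg Subgroup Equiv
open Cfsg.Agent.Fischer.Fi24RepDef Cfsg.Agent.Fischer.Fi24Rep
open Cfsg.Agent.Fischer.Fi24Spider (word_append word_cons word_nil)
open Cfsg.Agent.R08.FiTwentyFour (L gen_mem_L)
open Cfsg.Agent.H842.FrameK Cfsg.Agent.H842.Frame Cfsg.Agent.H842.FrameF Cfsg.Agent.H842.ThreeCl
open Cfsg.Agent.H842.Frame.Dat (c1 c2 q)
open Cfsg.Agent.H842.Seven (rho_gen)
open Cfsg.Agent.H232.SN.Two
open Cfsg.Spor (Fi24)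
open scoped commutatorElement

/-- two conjugates under the derived group generate a solvable group -/
def Sol (y : Fi24) : Prop := ∀ g ∈ commutator Fi24, Group.IsSolvable ↥(closure ({y, g * y * g⁻¹} : Set Fi24))

theorem Sol.inv {y : Fi24} (h : Sol y) : Sol y⁻¹ := by
  intro g hg
  refine mono_left ?_ (h g hg)
  rw [closure_le]
  rintro z (rfl | rfl)
  · exact inv_mem (subset_closure (Or.inl rfl))
  · have h1 : (g * y * g⁻¹)⁻¹ ∈ closure ({y, g * y * g⁻¹} : Set Fi24) := inv_mem (subset_closure (Or.inr rfl))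
    have h2 : g * y⁻¹ * g⁻¹ = (g * y * g⁻¹)⁻¹ := by group
    rw [h2]
    exact h1

theorem Sol.conj {y : Fi24} (h : Sol y) (c : Fi24) : Sol (c * y * c⁻¹) := by
  intro g hg
  have hn : (commutator Fi24).Normal := inferInstance
  have h0 : c⁻¹ * g * c ∈ commutator Fi24 := by
    have := hn.conj_mem g hg c⁻¹
    rwa [inv_inv] at this
  have h2 := solvable_map (MulAut.conj c).toMonoidHom (h _ h0)
  have e1 : (MulAut.conj c).toMonoidHom y = c * y * c⁻¹ := rfl
  have e2 : (MulAut.conj c).toMonoidHom (c⁻¹ * g * c * y * (c⁻¹ * g * c)⁻¹) = g * (c * y * c⁻¹) * g⁻¹ := by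
    show c * (c⁻¹ * g * c * y * (c⁻¹ * g * c)⁻¹) * c⁻¹ = _
    group
  rw [e1, e2] at h2
  exact h2

theorem Sol.cj {y z : Fi24} (h : Sol y) (h' : Cj ⊤ y z) : Sol z := by
  obtain ⟨g, -, h1 | h1⟩ := h'
  · rw [← h1]; exact h.conj g
  · have : z = (g * y * g⁻¹)⁻¹ := by rw [h1, inv_inv]
    rw [this]
    exact (h.conj g).inv

/-! ### The symmetric group -/

theorem S_comm (a b : Perm (Fin 6)) : S ⁅a, b⁆ ∈ commutator Fi24 := by
  rw [map_commutatorElement]
  exact Subgroup.commutator_mem_commutator (mem_top _) (mem_top _)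

theorem S_τ : S τ ∈ commutator Fi24 := by
  have h : τ = ⁅(swap 2 3 : Perm (Fin 6)), swap 2 4 * swap 3 5⁆ := by decide +kernel
  rw [h]
  exact S_comm _ _

theorem S_τ' : S τ' ∈ commutator Fi24 := by
  have h : τ' = ⁅(swap 1 3 : Perm (Fin 6)), swap 1 2 * swap 3 4⁆ := by decide +kernel
  rw [h]
  exact S_comm _ _

theorem FS (σ : Perm (Fin 6)) : F.S σ = S σ := rfl

/-- the key lemma: `y = r S(σ)`, `r` in a solvable group normalized by `S` -/
theorem not_sol {R : Subgroup Fi24} (hR : Group.IsSolvable R) (hN : ∀ σ, S σ ∈ normalizer (R : Set Fi24))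
    {σ π : Perm (Fin 6)} (hπ : S π ∈ commutator Fi24)
    (hns : ¬ Group.IsSolvable ↥(closure ({σ, π * σ * π⁻¹} : Set (Perm (Fin 6))))) {r : Fi24} (hr : r ∈ R) :
    ¬ Sol (r * S σ) := by
  intro h
  have h1 := h _ hπ
  have e1 : S π * (r * S σ) * (S π)⁻¹ = (S π * r * (S π)⁻¹) * S (π * σ * π⁻¹) := by
    rw [map_mul, map_mul, map_inv]; group
  rw [e1] at h1
  have h2 : S π * r * (S π)⁻¹ ∈ R := (Subgroup.mem_normalizer_iff.1 (hN π) r).1 hr
  exact hns (solvable_comap S S_inj (solvable_of_mul hR hr h2 (hN _) (hN _) h1))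

theorem not_sol' {σ π : Perm (Fin 6)} (hπ : S π ∈ commutator Fi24)
    (hns : ¬ Group.IsSolvable ↥(closure ({σ, π * σ * π⁻¹} : Set (Perm (Fin 6))))) : ¬ Sol (S σ) := by
  have hb : Group.IsSolvable (⊥ : Subgroup Fi24) := inferInstance
  have h := not_sol (R := ⊥) hb (fun σ => by rw [Subgroup.normalizer_eq_top]; exact mem_top _) hπ hns (r := 1)
    (one_mem _)
  rwa [one_mul] at h

/-- the normal subgroup `3^5` of the monomial group -/
noncomputable def RR : Subgroup Fi24 where
  carrier := Set.range F.R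
  one_mem' := ⟨0, F.R_zero⟩
  mul_mem' := by
    rintro _ _ ⟨e, rfl⟩ ⟨f, rfl⟩
    exact ⟨e + f, F.R_add e f⟩
  inv_mem' := by
    rintro _ ⟨e, rfl⟩
    exact ⟨-e, F.R_neg e⟩

theorem RR_solvable : Group.IsSolvable RR := by
  refine Group.isSolvable_of_comm ?_
  rintro ⟨_, e, rfl⟩ ⟨_, f, rfl⟩
  exact Subtype.ext (F.R_comm e f).eq

theorem RR_norm (σ : Perm (Fin 6)) : S σ ∈ normalizer (RR : Set Fi24) := by
  have key : ∀ (σ : Perm (Fin 6)) (n : Fi24), n ∈ RR → S σ * n * (S σ)⁻¹ ∈ RR := by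
    rintro σ _ ⟨e, rfl⟩
    exact ⟨_, (F.R_conj σ e).symm⟩
  rw [Subgroup.mem_normalizer_iff]
  intro n
  refine ⟨key σ n, fun h => ?_⟩
  have h1 := key σ⁻¹ _ h
  have h2 : S σ⁻¹ * (S σ * n * (S σ)⁻¹) * (S σ⁻¹)⁻¹ = n := by
    rw [map_inv]; group
  rwa [h2] at h1

/-! ### The classes -/

theorem not_sol_x5 : ¬ Sol F.x5 := by
  have h : F.x5 = F.R ![1, 0, 0, 1, 0, 0] * S qq := by
    unfold Full.x5
    have : q 1 1 = qq := by decide +kernel
    rw [this]
    rfl
  rw [h]
  exact not_sol RR_solvable RR_norm S_τ not_solvable_q ⟨_, rfl⟩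

theorem not_sol_one : ¬ Sol (gen .l * gen .k) := by
  have h : gen .l * gen .k = S cc := by
    unfold cc
    rw [map_mul, S01, S12]
  rw [h]
  exact not_sol' S_τ' not_solvable_c

/-- `l k b x` -/
theorem S_qq : S qq = gen .l * gen .k * (gen .b * x) := by
  unfold qq
  rw [map_mul, map_mul, map_mul, S01, S12, S34, S45]

/-- the conjugating element `h d` -/
noncomputable def hd : Fi24 := word [.h, .d]

theorem hd_conj : hd * gen .c * hd⁻¹ = x := by
  rw [x_word]
  unfold hd xw
  simp only [word_cons, word_nil, mul_one]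
  rw [mul_inv_rev, gen_inv, gen_inv]
  simp only [mul_assoc]

theorem hd_comm {y : Cfsg.Spor.Fi24.Gen} (h1 : Commute (gen y) (gen .h)) (h2 : Commute (gen y) (gen .d)) :
    hd * gen y * hd⁻¹ = gen y := by
  unfold hd
  simp only [word_cons, word_nil, mul_one]
  rw [((h1.mul_right h2).symm).eq]
  group

theorem com {y z : Cfsg.Spor.Fi24.Gen} (h : Cfsg.Spor.coxLabel Cfsg.Spor.Fi24.edges y z = 2) : Commute (gen y) (gen z) :=
  Cfsg.Agent.Fischer.Fi24Final.gen_comm h

theorem hd_l : hd * gen .l * hd⁻¹ = gen .l := hd_comm (com (by decide)) (com (by decide))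
theorem hd_k : hd * gen .k * hd⁻¹ = gen .k := hd_comm (com (by decide)) (com (by decide))
theorem hd_a : hd * gen .a * hd⁻¹ = gen .a := hd_comm (com (by decide)) (com (by decide))
theorem hd_b : hd * gen .b * hd⁻¹ = gen .b := hd_comm (com (by decide)) (com (by decide))

theorem hd_lkbc : hd * word [.l, .k, .b, .c] * hd⁻¹ = S qq := by
  rw [S_qq]
  simp only [word_cons, word_nil, mul_one]
  calc hd * (gen .l * (gen .k * (gen .b * gen .c))) * hd⁻¹ =
      (hd * gen .l * hd⁻¹) * (hd * gen .k * hd⁻¹) * ((hd * gen .b * hd⁻¹) * (hd * gen .c * hd⁻¹)) := by group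
    _ = _ := by rw [hd_l, hd_k, hd_b, hd_conj]

theorem not_sol_two : ¬ Sol (word [.l, .k, .b, .c]) := by
  intro h
  have h1 := h.conj hd
  rw [hd_lkbc] at h1
  exact not_sol' S_τ not_solvable_q h1

/-- the element `e f`, conjugated -/
noncomputable def ef : Fi24 := hd * word [.e, .f] * hd⁻¹

theorem ef_comm (σ : Perm (Fin 6)) : Commute (S σ) ef := by
  have h : S.range ≤ Subgroup.centralizer ({ef} : Set Fi24) := by
    rw [range_S, Subgroup.closure_le]
    rintro _ ⟨m, rfl⟩
    refine Subgroup.mem_centralizer_singleton_iff.2 ?_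
    have key : ∀ y : Cfsg.Spor.Fi24.Gen, Commute (gen y) (gen .e) → Commute (gen y) (gen .f) →
        Commute (hd * gen y * hd⁻¹) ef := by
      intro y h1 h2
      have h3 : Commute (gen y) (word [.e, .f]) := by
        simp only [word_cons, word_nil, mul_one]
        exact h1.mul_right h2
      exact h3.map (MulAut.conj hd).toMonoidHom
    fin_cases m
    · have := key .l (com (by decide)) (com (by decide))
      rw [hd_l] at this
      exact this
    · have := key .k (com (by decide)) (com (by decide))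
      rw [hd_k] at this
      exact this
    · have := key .a (com (by decide)) (com (by decide))
      rw [hd_a] at this
      exact this
    · have := key .b (com (by decide)) (com (by decide))
      rw [hd_b] at this
      exact this
    · have := key .c (com (by decide)) (com (by decide))
      rw [hd_conj] at this
      exact this
  exact Subgroup.mem_centralizer_singleton_iff.1 (h ⟨σ, rfl⟩)

theorem not_sol_four : ¬ Sol (word [.l, .k, .b, .c, .e, .f]) := by
  intro h
  have h1 := h.conj hd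
  have h2 : hd * word [.l, .k, .b, .c, .e, .f] * hd⁻¹ = ef * S qq := by
    have h3 : word [.l, .k, .b, .c, .e, .f] = word [.l, .k, .b, .c] * word [.e, .f] := by
      rw [← word_append]
      rfl
    rw [h3]
    calc hd * (word [.l, .k, .b, .c] * word [.e, .f]) * hd⁻¹ = (hd * word [.l, .k, .b, .c] * hd⁻¹) * ef := by
          unfold ef; group
      _ = S qq * ef := by rw [hd_lkbc]
      _ = ef * S qq := (ef_comm qq).eq
  rw [h2] at h1
  refine not_sol (R := zpowers ef) ?_ ?_ S_τ not_solvable_q (mem_zpowers ef) h1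
  · refine Group.isSolvable_of_comm fun a b => ?_
    exact Subtype.ext (by
      obtain ⟨i, hi⟩ := a.2
      obtain ⟨j, hj⟩ := b.2
      show (a : Fi24) * b = b * a
      rw [← hi, ← hj]
      exact (Commute.refl ef).zpow_zpow i j)
  · intro σ
    rw [Subgroup.mem_normalizer_iff]
    intro n
    have hn : ∀ m ∈ zpowers ef, Commute (S σ) m := by
      rintro _ ⟨i, rfl⟩
      exact (ef_comm σ).zpow_right i
    constructor
    · intro h
      rw [(hn n h).eq]
      have : n * S σ * (S σ)⁻¹ = n := by group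
      rwa [this]
    · intro h
      have h4 := hn _ h
      have h5 : S σ * (S σ * n * (S σ)⁻¹) * (S σ)⁻¹ = S σ * n * (S σ)⁻¹ := by rw [h4.eq]; group
      have h6 : S σ * n * (S σ)⁻¹ = n := by
        have := mul_left_cancel (mul_right_cancel h5)
        exact this
      rwa [h6] at h

/-- **an element of order three with `Sol` is conjugate to `c` or its inverse** -/
theorem cj_c {y : Fi24} (h3 : y ^ 3 = 1) (h1 : y ≠ 1) (h : Sol y) : Cj ⊤ y c := by
  rcases cases_five (Cfsg.Agent.H831.Types.inh_of_defs Cfsg.Agent.H830.Con24.fgroup) Cfsg.Agent.H830.Con24.isT8 h3 h1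
    with h2 | h2 | h2 | h2 | h2
  · exact absurd (h.cj (h2.trans cj1)) not_sol_one
  · exact absurd (h.cj (h2.trans cj2)) not_sol_two
  · rwa [R_rep0] at h2
  · exact absurd (h.cj (h2.trans cj4)) not_sol_four
  · exact absurd (h.cj h2) not_sol_x5

/-- **it commutes with a transposition** -/
theorem exists_comm {y : Fi24} (h3 : y ^ 3 = 1) (h1 : y ≠ 1) (h : Sol y) : ∃ d ∈ L, d * y = y * d := by
  obtain ⟨g, -, hg⟩ := cj_c h3 h1 h
  have h4 : Commute (gen .l) c := by have := c_comm_l; rwa [S01] at this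
  refine ⟨g⁻¹ * gen .l * g⁻¹⁻¹, Cfsg.Agent.R08.FiTwentyFour.conj (gen_mem_L .l) g⁻¹, ?_⟩
  rcases hg with hg | hg
  · have e : y = g⁻¹ * c * g⁻¹⁻¹ := by rw [← hg]; group
    rw [e]
    exact (h4.map (MulAut.conj g⁻¹).toMonoidHom).eq
  · have e : y = g⁻¹ * c⁻¹ * g⁻¹⁻¹ := by rw [← hg]; group
    rw [e]
    exact (h4.inv_right.map (MulAut.conj g⁻¹).toMonoidHom).eq

end Cfsg.Agent.H232.SN.FiF
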