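import Cfsg.Agent.H491.Rad3.B
import Cfsg.Agent.H256.OddInner
import Cfsg.Agent.H232.SN.FiF
import Cfsg.Agent.H232.SN.Pass

/-!
# `G3` for `Fi24'` (helper232, for S3831)
-/

set_option autoImplicit false

namespace Cfsg.Agent.H232.SN.FiT

open Subgroup Cfsg Cfsg.Spor Cfsg.Agent.H21.SN Cfsg.Agent.H459.Rad Cfsg.Agent.H232.SN
open Cfsg.Agent.R08.FiTwentyFour (L)
open Cfsg.Agent.H232.SN.FiF (Sol)

theorem center_eq : center Spor.Fi24' = ⊥ := by
  have hfin : Finite Spor.Fi24' := Nat.finite_of_card_ne_zero (by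
    rw [Cfsg.Agent.R08.FiTwentyFour.isFi24'.2]; norm_num)
  have hs : IsSimpleGroup Spor.Fi24' := Cfsg.Agent.R08.FiTwentyFour.isFi24'.1
  exact center_eq_bot (by rw [Cfsg.Agent.R08.FiTwentyFour.isFi24'.2]; norm_num)

theorem sol_of_ps {x : Spor.Fi24'} (h : PS 2 (MulAut.conj x)) : Sol (x : Fi24) := by
  intro g hg
  have h1 := Cfsg.Agent.H839.Rad.solvable_pair center_eq h ⟨g, hg⟩
  have h2 := Two.solvable_map (commutator Fi24).subtype h1
  exact h2

/-- **`Fi24'`** -/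
theorem g3_model (h23 : G3 Spor.Fi23) : G3 Spor.Fi24' := by
  have hfin : Finite Spor.Fi24' := Nat.finite_of_card_ne_zero (by
    rw [Cfsg.Agent.R08.FiTwentyFour.isFi24'.2]; norm_num)
  refine g3_of_inner (fun x hx => Cfsg.Agent.H256.OddInner.fi24' (K := Spor.Fi24') ⟨MulEquiv.refl _⟩ x
    (by rw [hx]; decide)) center_eq ?_
  intro x ho hP hR
  have hx3 : x ^ 3 = 1 := by rw [← ho, pow_orderOf_eq_one]
  have hx1 : x ≠ 1 := by
    rintro rfl
    rw [orderOf_one] at ho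
    norm_num at ho
  obtain ⟨d, hd, hdx⟩ := FiF.exists_comm (congrArg Subtype.val hx3) (fun h => hx1 (Subtype.ext h)) (sol_of_ps hP)
  obtain ⟨c, rfl⟩ := isConj_iff.1 (show IsConj (Cfsg.Agent.Fischer.Fi24Class.gen .l) d from hd)
  -- the centralizer of `d` in `Fi24'` is isomorphic to `Fi23`
  have hn : (commutator Fi24).Normal := inferInstance
  let φ : Spor.Fi23 →* Spor.Fi24' := (((MulAut.conj c).toMonoidHom.comp
    Cfsg.Agent.R08.FiTwentyFour.facts.phi)).codRestrict (commutator Fi24) fun k =>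
      hn.conj_mem _ (Cfsg.Agent.R08.FiTwentyFour.mem_commutator_iff.2
        (Cfsg.Agent.R08.FiTwentyFour.facts.sgn_phi k)) c
  have hφ : Function.Injective φ := by
    intro a b hab
    have h1 : c * Cfsg.Agent.R08.FiTwentyFour.facts.phi a * c⁻¹ = c * Cfsg.Agent.R08.FiTwentyFour.facts.phi b * c⁻¹ :=
      congrArg Subtype.val hab
    exact Cfsg.Agent.R08.FiTwentyFour.facts.phi_injective (mul_left_cancel (mul_right_cancel h1))
  have h23' := Cfsg.Agent.S1697.result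
  have hs : IsSimpleGroup Spor.Fi23 := h23'.1
  have h23c : Nat.card Spor.Fi23 = 4089470473293004800 := h23'.2
  have hfin3 : Finite Spor.Fi23 := Nat.finite_of_card_ne_zero (by rw [h23c]; norm_num)
  let e : Spor.Fi23 ≃* φ.range := MonoidHom.ofInjective hφ
  have hcM : Nat.card φ.range = 4089470473293004800 := (Nat.card_congr e.toEquiv).symm.trans h23c
  have hsM : IsSimpleGroup φ.range := (MulEquiv.isSimpleGroup_congr e).1 hs
  refine false_of_mem ho hP hR (M := φ.range) ?_ (center_eq_bot (by rw [hcM]; norm_num)) (G3.congr e.symm h23)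
  -- `x` lies in the range
  have h1 : (c⁻¹ * (x : Fi24) * c) * Cfsg.Agent.Fischer.Fi24Class.gen .l =
      Cfsg.Agent.Fischer.Fi24Class.gen .l * (c⁻¹ * (x : Fi24) * c) := by
    calc (c⁻¹ * (x : Fi24) * c) * Cfsg.Agent.Fischer.Fi24Class.gen .l =
        c⁻¹ * ((x : Fi24) * (c * Cfsg.Agent.Fischer.Fi24Class.gen .l * c⁻¹)) * c := by group
      _ = c⁻¹ * ((c * Cfsg.Agent.Fischer.Fi24Class.gen .l * c⁻¹) * (x : Fi24)) * c := by rw [hdx]
      _ = _ := by group
  have h2 : c⁻¹ * (x : Fi24) * c ∈ commutator Fi24 := by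
    have := hn.conj_mem (x : Fi24) x.2 c⁻¹
    rwa [inv_inv] at this
  obtain ⟨k, hk⟩ := (Cfsg.Agent.R08.FiTwentyFour.facts.mem_range_iff _).2
    ⟨h1, Cfsg.Agent.R08.FiTwentyFour.mem_commutator_iff.1 h2⟩
  refine ⟨k, Subtype.ext ?_⟩
  show c * Cfsg.Agent.R08.FiTwentyFour.facts.phi k * c⁻¹ = (x : Fi24)
  rw [hk]
  group

/-- **`Fi24'`** -/
theorem g3_fi24p (h23 : G3 Spor.Fi23) {K : Type*} [Group K] [Finite K] (h : Cfsg.Spor.IsoFi24' K) : G3 K := by
  obtain ⟨e⟩ := h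
  have hfin : Finite Spor.Fi24' := Finite.of_equiv K e.toEquiv
  exact G3.congr e (g3_model h23)

end Cfsg.Agent.H232.SN.FiT
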