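import Cfsg.Agent.H345.IRowCo3
import Cfsg.Agent.H232.SN.Pass

/-!
# `G3` for `Co3` (helper232, for S3831)

Every element of order three commutes with an involution, whose centralizer is `2.Sp6(2)` or `2 × M12`.
-/

set_option autoImplicit false

namespace Cfsg.Agent.H232.SN.Co

open Subgroup Cfsg Cfsg.Agent.H21.SN Cfsg.Agent.H459.Rad Cfsg.Agent.H232.SN
open Cfsg.Agent.SporRec.Co3.Chain (G3)
open Cfsg.Agent.SporRec.Co3.Ident (Z)
open Cfsg.Agent.CpAutCo3.MTw (ww ee wC ker_cases cls)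
open Cfsg.Agent.H345.IRowCo (finG3 center_G3)

/-- a kernel with at most two elements -/
theorem solvable_ker {H L : Type*} [Group H] [Group L] (π : H →* L) {z : H}
    (hk : ∀ g, π g = 1 → g = 1 ∨ g = z) : Group.IsSolvable π.ker := by
  refine Group.isSolvable_of_comm fun a b => ?_
  rcases hk a a.2 with h | h
  · have : a = 1 := Subtype.ext h
    rw [this, one_mul, mul_one]
  · rcases hk b b.2 with h' | h'
    · have : b = 1 := Subtype.ext h'
      rw [this, one_mul, mul_one]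
    · have : a = b := Subtype.ext (h.trans h'.symm)
      rw [this]

theorem not_in_ker {H L : Type*} [Group H] [Group L] (π : H →* L) {z : H} (hz : z * z = 1)
    (hk : ∀ g, π g = 1 → g = 1 ∨ g = z) {a : H} (ha : orderOf a = 3) : π a ≠ 1 := by
  intro h1
  have h2 : a ^ 2 = 1 := by
    rcases hk a h1 with h | h
    · rw [h, one_pow]
    · rw [h, pow_two, hz]
  have h3 := orderOf_dvd_of_pow_eq_one h2
  rw [ha] at h3
  norm_num at h3

/-- an element of order three commuting with an element `t` whose centralizer has a nice quotient -/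
theorem false_cent {G : Type*} [Group G] [Finite G] {x t : G} (hx : orderOf x = 3) (hxt : x * t = t * x)
    (hP : PS 2 (MulAut.conj x)) (hR : RN (MulAut.conj x)) {L : Type*} [Group L] [Finite L]
    (π : ↥(centralizer ({t} : Set G)) →* L) (hs : Function.Surjective π) {z : ↥(centralizer ({t} : Set G))}
    (hz : z * z = 1) (hk : ∀ g, π g = 1 → g = 1 ∨ g = z) (hZ : center L = ⊥) (h : Cfsg.Agent.H21.SN.G3 L) : False :=
  false_of_map (by rw [← hx, pow_orderOf_eq_one]) hP hR (mem_centralizer_singleton_iff.2 hxt) π hs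
    (solvable_ker π hk) hZ (not_in_ker π hz hk (by rw [Subgroup.orderOf_mk]; exact hx)) h

theorem center_sp : center Cfsg.Agent.SporRec.TwoSp6.Sp.S = ⊥ := Cfsg.Agent.Co2Type.Setup.center_sp6

/-- **`Co3`** -/
theorem g3_G3 (hM12 : Cfsg.Agent.H21.SN.G3 Spor.M12) (hSp : Cfsg.Agent.H21.SN.G3 Cfsg.Agent.SporRec.TwoSp6.Sp.S) :
    Cfsg.Agent.H21.SN.G3 G3 := by
  have := finG3
  have hs : IsSimpleGroup G3 := Cfsg.Agent.SporRec.Co3.Chain.isCo3_G3.1
  have hI : Cfsg.Spor.IsoCo3 G3 := ⟨Cfsg.Agent.SporRec.Co3.Model.equivCo3⟩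
  refine g3_of_inner (Cfsg.Agent.BpSpor.Inn.co3 hI 3 Nat.prime_three (by norm_num)) center_G3 ?_
  intro x hxo hP hR
  obtain ⟨t, ht2, ht1, htx⟩ := Cfsg.Agent.H143.Co3Inv.three_inv (x := x)
    (by rw [← hxo, pow_orderOf_eq_one]) (fun h => by rw [h, orderOf_one] at hxo; norm_num at hxo)
  -- conjugating
  have key : ∀ (g w : G3), t = g * w * g⁻¹ →
      (∀ y : G3, orderOf y = 3 → y * w = w * y → PS 2 (MulAut.conj y) → RN (MulAut.conj y) → False) → False := by
    intro g w hw H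
    refine H (g⁻¹ * x * g⁻¹⁻¹) ?_ ?_ (Cfsg.Agent.H839.Rad.ps_conj hP g⁻¹) (rn_conj hR g⁻¹)
    · rw [← hxo]
      exact orderOf_injective (MulAut.conj g⁻¹).toMonoidHom (MulAut.conj g⁻¹).injective x
    · have h1 : x * (g * w * g⁻¹) = (g * w * g⁻¹) * x := by rw [← hw]; exact htx.symm
      calc g⁻¹ * x * g⁻¹⁻¹ * w = g⁻¹ * (x * (g * w * g⁻¹)) * g := by group
        _ = g⁻¹ * ((g * w * g⁻¹) * x) * g := by rw [h1]
        _ = _ := by group
  rcases cls ht2 ht1 with ⟨g, hg⟩ | ⟨g, hg⟩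
  · refine key g Z (by rw [← hg]) ?_
    intro y hy hyc hPy hRy
    obtain ⟨π, N⟩ := Cfsg.Agent.KFacts.Co3D4.exists_NS_G3
    have hc := Cfsg.Agent.SporRec.TwoSp6.Sp.card_S
    have hf : Finite Cfsg.Agent.SporRec.TwoSp6.Sp.S := Nat.finite_of_card_ne_zero (by rw [hc]; norm_num)
    exact false_cent hy hyc hPy hRy π N.surj N.z_sq N.ker center_sp hSp
  · refine key g ww (by rw [← hg]) ?_
    intro y hy hyc hPy hRy
    have hM := Cfsg.Agent.CTwoTab.Co3.simple_M12
    have hf : Finite Spor.M12 := Cfsg.Agent.CpAutCo3.MTw.finM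
    have hfK : Finite Cfsg.Agent.SigZero.CoThreeB.K := Finite.of_equiv _ ee.symm.toEquiv
    have hcM : center Spor.M12 = ⊥ :=
      center_eq_bot (by rw [Cfsg.Agent.MTwelveType.SylowModel.card_M12]; norm_num)
    let E := Cfsg.Agent.H345.IRowCo.cent_equiv ee Cfsg.Agent.SigZero.CoThreeB.wK
    let π : ↥(centralizer ({ww} : Set G3)) →* Spor.M12 :=
      Cfsg.Agent.SigZero.CoThreeB.proj.comp E.symm.toMonoidHom
    refine false_cent hy hyc hPy hRy π (Cfsg.Agent.SigZero.CoThreeB.proj_surj.comp E.symm.surjective)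
      (z := E Cfsg.Agent.CpAutCo3.MTw.wC) ?_ ?_ hcM hM12
    · exact ((map_mul E _ _).symm.trans (congrArg E Cfsg.Agent.CpAutCo3.MTw.wC_sq)).trans (map_one E)
    · intro g hg
      rcases ker_cases (show Cfsg.Agent.SigZero.CoThreeB.proj (E.symm g) = 1 from hg) with h1 | h1
      · left
        exact (E.symm_apply_eq.1 h1).trans (map_one E)
      · right
        exact E.symm_apply_eq.1 h1

/-- **`Co3`** -/
theorem g3_co3 (hM12 : Cfsg.Agent.H21.SN.G3 Spor.M12) (hSp : Cfsg.Agent.H21.SN.G3 Cfsg.Agent.SporRec.TwoSp6.Sp.S)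
    {K : Type*} [Group K] [Finite K] (h : Cfsg.Spor.IsoCo3 K) : Cfsg.Agent.H21.SN.G3 K := by
  have := finG3
  obtain ⟨e⟩ := h
  exact Cfsg.Agent.H21.SN.G3.congr (e.trans Cfsg.Agent.SporRec.Co3.Model.equivCo3.symm) (g3_G3 hM12 hSp)

end Cfsg.Agent.H232.SN.Co
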