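import Cfsg.Agent.H96.Wf.M
import Cfsg.Agent.H232.SN.Pass

/-!
# `G3` for the Monster (helper232, for S3831)

Every element of order three has a conjugate in `C(x₀) = 3^{1+12}.2.Suz` outside the solvable radical (the proof of
`H96.Wf.M.exists_of_lift`, with more data).
-/

set_option autoImplicit false
set_option linter.style.haveILetI false

namespace Cfsg.Agent.H232.SN.Mon

open Subgroup Cfsg Cfsg.Agent.H749
open Cfsg.Agent.MonsterU Cfsg.Agent.LThree Cfsg.Agent.LThreeMB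
open Cfsg.Agent.MonsterU.Ch
open Cfsg.Agent.MonsterU.Lam2 (L2 IsType)
open Cfsg.Agent.MonsterX.KSide Cfsg.Agent.MonsterX.KLift
open Cfsg.Spor (Co1)
open Cfsg.Agent.H459.Rad
open Cfsg.Agent.H345.IRowM
open Cfsg.Agent.BpSpor.MThree (Dat exists_hom ker_solvable)
open Cfsg.Agent.H96.Wf.M (exists_good)

universe u v

section lift

variable {G : Type u} {V P W : Type*} [Group G] [AddCommGroup V] [Module ℚ V]
  [DistribMulAction G V] [SMulCommClass G ℚ V] [Group P] [AddCommGroup W] [Module ℚ W]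
  {M : KS G V P W} {θ : leechLattice → P}

theorem exists_of_lift [Finite G] [IsSimpleGroup G] (L : Lift M θ) (hc : KChart.Cent M) (I : CoOne)
    (h0 : ClassOf 1) (ht : TrNe M.z (KChart.pi hc)) (hpair : HasPair M.z (KChart.pi hc))
    (hex : ∀ x : G, orderOf x = 3 → (∃ v : G, v * v = 1 ∧ v ≠ 1 ∧ v * x = x * v) →
      ∃ g : G, (g * M.z * g⁻¹) * x = x * (g * M.z * g⁻¹))
    (hcard : 3 ^ 20 ∣ Nat.card G) (hcard' : ¬ 3 ^ 21 ∣ Nat.card G) :
    ∃ (D : Subgroup G) (F : D →* Spor.Suz), Function.Surjective F ∧ Group.IsSolvable F.ker ∧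
      ∀ x : G, orderOf x = 3 → ∃ (g : G) (hg : g * x * g⁻¹ ∈ D), F ⟨g * x * g⁻¹, hg⟩ ≠ 1 := by
  haveI : Fact (Nat.Prime 3) := ⟨Nat.prime_three⟩
  have h := KChart.chart L hc
  obtain ⟨x₀, hx₀, hfr₀, hidx⟩ := exists_x₀ h I h0 ht hpair hex hcard
  have hx₀o : orderOf (x₀ : G) = 3 := by rw [Subgroup.orderOf_coe]; exact hx₀
  have hDat := Cfsg.Agent.BpSpor.MThree.dat_zero L hc ht hx₀ hfr₀ (I.suz _ (orderOf_pi h hx₀) hfr₀)
  have hX : IsSimpleGroup (XX (KChart.pi hc x₀)) := hDat.simple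
  have hXc : Nat.card (XX (KChart.pi hc x₀)) = 448345497600 := hDat.card
  obtain ⟨N, F, hN, hNo, hsup, hNF, hFφ, hFs, hFk⟩ := exists_hom
    (fun K _ _ hK => Cfsg.Agent.S0205.result hK) hDat.ord hDat.iso hX (by rw [hXc]; decide) (toXX (KChart.pi hc) x₀)
    hDat.surj (ker_solvable hDat.ker)
  obtain ⟨E⟩ := hDat.suz
  refine ⟨centralizer ({(x₀ : G)} : Set G), E.toMonoidHom.comp F, E.surjective.comp hFs, ?_, ?_⟩
  · have hk : (E.toMonoidHom.comp F).ker = F.ker := by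
      ext k
      rw [MonoidHom.mem_ker, MonoidHom.mem_ker]
      exact E.map_eq_one_iff
    rw [hk]
    exact hFk
  intro x hx
  obtain ⟨g, hg⟩ := Cfsg.Agent.H533.T5.exists_conj_mem_of_index hidx hx
  by_cases hF : F ⟨g * x * g⁻¹, hg⟩ = 1
  swap
  · exact ⟨g, hg, fun h1 => hF (E.map_eq_one_iff.1 h1)⟩
  have hx' : orderOf (g * x * g⁻¹) = 3 := by
    rw [← hx]
    exact orderOf_injective (MulAut.conj g).toMonoidHom (MulAut.conj g).injective x
  -- the element is in the solvable radical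
  have hrad : (⟨g * x * g⁻¹, hg⟩ : ↥(centralizer ({(x₀ : G)} : Set G))) ∈
      solvableRadical ↥(centralizer ({(x₀ : G)} : Set G)) := by
    have h1 : F.ker ≤ solvableRadical ↥(centralizer ({(x₀ : G)} : Set G)) :=
      le_sSup ⟨inferInstance, hFk⟩
    exact h1 hF
  obtain ⟨s, hs2, hs1, hsy⟩ := Cfsg.Agent.H345.MOrb.exists_inv hDat (Cfsg.Agent.BpSpor.BThree.not_nine h hx₀ hfr₀)
    (fun h1 => hcard' (h1.trans (card_subgroup_dvd_card _)))
    (x₀ := (⟨(x₀ : G), mem_centralizer_singleton_iff.2 rfl⟩ : ↥(centralizer ({(x₀ : G)} : Set G))))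
    (by rw [Subgroup.orderOf_mk]; exact hx₀o)
    (fun d => Subtype.ext (mem_centralizer_singleton_iff.1 d.2))
    (y := ⟨g * x * g⁻¹, hg⟩) (Subtype.ext (by
      show (g * x * g⁻¹) ^ 3 = 1
      rw [← hx', pow_orderOf_eq_one])) hrad
  obtain ⟨m, hm⟩ := hex _ hx' ⟨s, congrArg Subtype.val hs2, fun h1 => hs1 (Subtype.ext h1), congrArg Subtype.val hsy⟩
  -- a conjugate in `C(z)`
  set y : G := m⁻¹ * (g * x * g⁻¹) * m with hy
  have hyz : y * M.z = M.z * y := by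
    calc y * M.z = m⁻¹ * ((g * x * g⁻¹) * (m * M.z * m⁻¹)) * m := by rw [hy]; group
      _ = m⁻¹ * ((m * M.z * m⁻¹) * (g * x * g⁻¹)) * m := by rw [hm]
      _ = M.z * y := by rw [hy]; group
  have hyo : orderOf y = 3 := by
    rw [← hx', hy]
    have := orderOf_injective (MulAut.conj m⁻¹).toMonoidHom (MulAut.conj m⁻¹).injective (g * x * g⁻¹)
    rw [← this]
    congr 1
    show m⁻¹ * (g * x * g⁻¹) * m = m⁻¹ * (g * x * g⁻¹) * m⁻¹⁻¹
    rw [inv_inv]
  obtain ⟨n, k, hnk, hk⟩ := exists_good h h0 hx₀ hfr₀ (x := ⟨y, mem_centralizer_singleton_iff.2 hyz⟩)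
    (by rw [Subgroup.orderOf_mk]; exact hyo)
  have hnk' : n * y * n⁻¹ = ((k : ↥(centralizer ({(x₀ : G)} : Set G))) : G) := hnk
  have e1 : (n * m⁻¹ * g) * x * (n * m⁻¹ * g)⁻¹ = ((k : ↥(centralizer ({(x₀ : G)} : Set G))) : G) := by
    rw [← hnk', hy]; group
  refine ⟨n * m⁻¹ * g, by rw [e1]; exact (k : ↥(centralizer ({(x₀ : G)} : Set G))).2, ?_⟩
  have e2 : (⟨(n * m⁻¹ * g) * x * (n * m⁻¹ * g)⁻¹, by rw [e1]; exact (k : ↥(centralizer ({(x₀ : G)} : Set G))).2⟩ :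
      ↥(centralizer ({(x₀ : G)} : Set G))) = k := Subtype.ext e1
  rw [e2]
  intro h1
  have h2 := E.map_eq_one_iff.1 h1
  rw [hFφ] at h2
  exact hk h2

end lift

/-! ### The model -/

open Cfsg.Agent.MonsterX Cfsg.Agent.MonsterX.InstData Cfsg.Agent.MonsterX.MainPack
open Cfsg.Agent.MonsterP Cfsg.Agent.MonsterN
open Cfsg.Agent.MonsterX.MainBasic Cfsg.Agent.MonsterX.MainSimple Cfsg.Agent.MonsterX.Model

theorem exists_model : ∃ (D : Subgroup ↥InstData.M.G) (F : D →* Spor.Suz), Function.Surjective F ∧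
      Group.IsSolvable F.ker ∧
      ∀ x : ↥InstData.M.G, orderOf x = 3 → ∃ (g : ↥InstData.M.G) (hg : g * x * g⁻¹ ∈ D), F ⟨g * x * g⁻¹, hg⟩ ≠ 1 := by
  have := Row.finite_model
  have := Row.simple_model
  obtain ⟨A, B, F⟩ := LThreeM.SigRow.facts_model
  refine exists_of_lift KDone.lft Row.cent CoOneFin.coOne LThreeCo1.Ranks.zero
    (KPair.trNe KDone.lft Row.cent (LThreeMBTr.traceNe KDone.lft LThreeMBTr.TensK.tens))
    (KPair.hasPair KDone.lft Row.cent Row.second COct.octPair) ?_ ?_ ?_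
  · rintro x hx ⟨v, hv, hv1, hc⟩
    exact LThreeM.FiRow.exists_z_of_comm (by rw [← hx, pow_orderOf_eq_one]) hv hv1 hc.symm
  · rw [F.card]
    norm_num
  · rw [F.card]
    norm_num

/-- **The Monster** -/
theorem g3_m (hSuz : Cfsg.Agent.H21.SN.G3 Spor.Suz) {K : Type*} [Group K] [Finite K] (h : Cfsg.Spor.IsoM K) :
    Cfsg.Agent.H21.SN.G3 K := by
  have hfin := Row.finite_model
  have hsim := Row.simple_model
  obtain ⟨A, B, FF⟩ := LThreeM.SigRow.facts_model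
  have hZ : center ↥InstData.M.G = ⊥ := Cfsg.Agent.H345.IRowM.center_eq_bot (by rw [FF.card]; norm_num)
  obtain ⟨f⟩ := Cfsg.Agent.MonsterP.Equiv.equiv
  have hI : Cfsg.Spor.IsoM ↥InstData.M.G := ⟨f.symm⟩
  obtain ⟨e⟩ := h
  refine Cfsg.Agent.H21.SN.G3.congr (e.trans f) ?_
  have hS : IsSimpleGroup Spor.Suz := Cfsg.Agent.S1694.result.1
  have hSc : Nat.card Spor.Suz = 448345497600 := Cfsg.Agent.S1694.result.2
  have hSf : Finite Spor.Suz := Nat.finite_of_card_ne_zero (by rw [hSc]; norm_num)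
  obtain ⟨D, F, hF, hk, hx⟩ := exists_model
  refine g3_of_inner (Cfsg.Agent.BpSpor.Inn.m hI 3 Nat.prime_three (by norm_num)) hZ ?_
  intro a ha hP hR
  obtain ⟨g, hg, hne⟩ := hx a ha
  refine false_of_map (a := g * a * g⁻¹) ?_ (Cfsg.Agent.H839.Rad.ps_conj hP g) (rn_conj hR g) hg F hF hk
    (Cfsg.Agent.H345.IRowM.center_eq_bot (by rw [hSc]; norm_num)) hne hSuz
  rw [conj_pow, ← ha, pow_orderOf_eq_one]
  group

end Cfsg.Agent.H232.SN.Mon
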