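import Cfsg.Agent.H232.SN.Two
import Cfsg.Agent.H232.SN.Pass

/-!
# Elements of order three of symmetric subgroups, two conjugates (helper232, for S3831)

* `Sol2 y` : `⟨y, y^g⟩` is solvable for all `g`;
* `not_sol2` : not for `y = w f(σ)`, `f : Perm (Fin n) →* G` injective, `w` commuting with the image, `⟨σ, σ^π⟩` not
  solvable.
* `g3_of_sol2` : `G3` if no element of order three has `Sol2`.
-/

set_option autoImplicit false
set_option maxRecDepth 100000

namespace Cfsg.Agent.H232.SN.SymKill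

open Subgroup Equiv Cfsg.Agent.H232.SN.Two

variable {G : Type*} [Group G]

/-- two conjugates generate a solvable group -/
def Sol2 (y : G) : Prop := ∀ g : G, Group.IsSolvable ↥(closure ({y, g * y * g⁻¹} : Set G))

theorem Sol2.inv {y : G} (h : Sol2 y) : Sol2 y⁻¹ := by
  intro g
  refine mono_left ?_ (h g)
  rw [closure_le]
  rintro z (rfl | rfl)
  · exact inv_mem (subset_closure (Or.inl rfl))
  · have h1 : (g * y * g⁻¹)⁻¹ ∈ closure ({y, g * y * g⁻¹} : Set G) := inv_mem (subset_closure (Or.inr rfl))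
    have h2 : g * y⁻¹ * g⁻¹ = (g * y * g⁻¹)⁻¹ := by group
    rw [h2]
    exact h1

theorem Sol2.conj {y : G} (h : Sol2 y) (c : G) : Sol2 (c * y * c⁻¹) := by
  intro g
  have h2 := solvable_map (MulAut.conj c).toMonoidHom (h (c⁻¹ * g * c))
  have e1 : (MulAut.conj c).toMonoidHom y = c * y * c⁻¹ := rfl
  have e2 : (MulAut.conj c).toMonoidHom (c⁻¹ * g * c * y * (c⁻¹ * g * c)⁻¹) = g * (c * y * c⁻¹) * g⁻¹ := by
    show c * (c⁻¹ * g * c * y * (c⁻¹ * g * c)⁻¹) * c⁻¹ = _
    group
  rw [e1, e2] at h2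
  exact h2

/-- **elements with a component in a symmetric subgroup** -/
theorem not_sol2 {H : Type*} [Group H] (f : H →* G) (hf : Function.Injective f) {σ π : H}
    (hns : ¬ Group.IsSolvable ↥(closure ({σ, π * σ * π⁻¹} : Set H))) {w : G} (hw : ∀ x, Commute (f x) w) :
    ¬ Sol2 (w * f σ) := by
  intro h
  have h1 := h (f π)
  have e1 : f π * (w * f σ) * (f π)⁻¹ = w * f (π * σ * π⁻¹) := by
    rw [map_mul, map_mul, map_inv]
    calc f π * (w * f σ) * (f π)⁻¹ = (f π * w) * (f σ * (f π)⁻¹) := by group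
      _ = _ := by rw [(hw π).eq]; group
  rw [e1] at h1
  have hz : ∀ x, f x ∈ normalizer (zpowers w : Set G) := by
    intro x
    rw [Subgroup.mem_normalizer_iff]
    intro n
    have hn : ∀ m ∈ zpowers w, Commute (f x) m := by
      rintro _ ⟨i, rfl⟩
      exact (hw x).zpow_right i
    constructor
    · intro h
      rw [(hn n h).eq]
      have : n * f x * (f x)⁻¹ = n := by group
      rwa [this]
    · intro h
      have h4 := hn _ h
      have h5 : f x * (f x * n * (f x)⁻¹) * (f x)⁻¹ = f x * n * (f x)⁻¹ := by rw [h4.eq]; group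
      have h6 : f x * n * (f x)⁻¹ = n := mul_left_cancel (mul_right_cancel h5)
      rwa [h6] at h
  have hs : Group.IsSolvable ↥(zpowers w) := by
    refine Group.isSolvable_of_comm fun a b => ?_
    exact Subtype.ext (by
      obtain ⟨i, hi⟩ := a.2
      obtain ⟨j, hj⟩ := b.2
      show (a : G) * b = b * a
      rw [← hi, ← hj]
      exact (Commute.refl w).zpow_zpow i j)
  exact hns (solvable_comap f hf (solvable_of_mul hs (mem_zpowers w) (mem_zpowers w) (hz _) (hz _) h1))

theorem not_sol2' {H : Type*} [Group H] (f : H →* G) (hf : Function.Injective f) {σ π : H}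
    (hns : ¬ Group.IsSolvable ↥(closure ({σ, π * σ * π⁻¹} : Set H))) : ¬ Sol2 (f σ) := by
  have h := not_sol2 f hf hns (w := 1) (fun x => Commute.one_right _)
  rwa [one_mul] at h

/-- the row -/
theorem g3_of_sol2 [Finite G] (hZ : center G = ⊥)
    (hin : ∀ x : MulAut G, orderOf x = 3 → ∃ a : G, x = MulAut.conj a)
    (h : ∀ y : G, y ^ 3 = 1 → y ≠ 1 → ¬ Sol2 y) : Cfsg.Agent.H21.SN.G3 G := by
  refine g3_of_inner hin hZ ?_
  intro a ha hP _
  refine h a (by rw [← ha, pow_orderOf_eq_one]) ?_ (Cfsg.Agent.H839.Rad.solvable_pair hZ hP)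
  rintro rfl
  rw [orderOf_one] at ha
  norm_num at ha

/-! ### Permutations -/

/-- the perfect pair criterion in a permutation group -/
theorem not_solvable_perm {n : ℕ} {a b : Perm (Fin n)} (s t : Perm (Fin n))
    (hs : s ∈ closure ({a, b} : Set (Perm (Fin n)))) (ht : t ∈ closure ({a, b} : Set (Perm (Fin n))))
    (h3 : s ^ 3 = 1) (h2 : t ^ 2 ^ 1 = 1) (h5 : (s * t) ^ 5 = 1) (hne : s * t ≠ 1) :
    ¬ Group.IsSolvable ↥(closure ({a, b} : Set (Perm (Fin n)))) := by
  intro h
  have h1 : closure ({s, t} : Set (Perm (Fin n))) ≤ closure ({a, b} : Set (Perm (Fin n))) := by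
    rw [closure_le]
    rintro z (rfl | rfl)
    · exact hs
    · exact ht
  exact Cfsg.Agent.H959.Rad3.not_solvable_of_coprime (k := 1) (n := 5) h3 h2 h5 (by decide) hne (mono_left h1 h)

end Cfsg.Agent.H232.SN.SymKill
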